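import Groth.Agent.Lib.KInj.Derived
import Groth.Agent.Lib.KInj.DerivedAdj
import Mathlib.Algebra.Homology.DerivedCategory.ExactFunctor
import Mathlib.Algebra.Homology.DerivedCategory.Plus

/-!
# Full faithfulness of the derived functor of an exact left adjoint, through the adjunct of a resolution
-/

set_option autoImplicit false
set_option backward.isDefEq.respectTransparency false

universe w₁ w₂ v₁ v₂ u₁ u₂

open CategoryTheory Category Limits DerivedCategory

noncomputable section

namespace Groth.Agent.FibLocal8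

variable {A : Type u₁} [Category.{v₁} A] [Abelian A] [HasDerivedCategory.{w₁} A]
  {B : Type u₂} [Category.{v₂} B] [Abelian B] [HasDerivedCategory.{w₂} B]
  {θ : A ⥤ B} {P : B ⥤ A} (adj : θ ⊣ P) [θ.Additive] [P.Additive]
  [PreservesFiniteLimits θ] [PreservesFiniteColimits θ]

local notation:max "cx" F:max => Functor.mapHomologicalComplex F (ComplexShape.up ℤ)

/-- The adjunct of a map of complexes. -/
def adjunct {L : CochainComplex A ℤ} {J : CochainComplex B ℤ} (q : (cx θ).obj L ⟶ J) : L ⟶ (cx P).obj J :=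
  (KInjLib.adjComplexes adj (ComplexShape.up ℤ)).homEquiv L J q

/-- Composition with the derived counit. -/
def psi (J : CochainComplex B ℤ) (K : DerivedCategory A) (y : K ⟶ Q.obj ((cx P).obj J)) :
    θ.mapDerivedCategory.obj K ⟶ Q.obj J :=
  θ.mapDerivedCategory.map y ≫ θ.mapDerivedCategoryFactors.hom.app _ ≫
    Q.map ((KInjLib.adjComplexes adj (ComplexShape.up ℤ)).counit.app J)

theorem psi_Q_map (J : CochainComplex B ℤ) {K : CochainComplex A ℤ} (ψ : K ⟶ (cx P).obj J) :
    psi adj J (Q.obj K) (Q.map ψ) = θ.mapDerivedCategoryFactors.hom.app K ≫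
      Q.map (((KInjLib.adjComplexes adj (ComplexShape.up ℤ)).homEquiv K J).symm ψ) := by
  rw [psi, θ.mapDerivedCategoryFactors_hom_naturality_assoc, ← Q.map_comp,
    Adjunction.homEquiv_counit]

include adj in
theorem isKInjective_push (J : CochainComplex B ℤ) [J.IsKInjective] :
    CochainComplex.IsKInjective ((cx P).obj J) :=
  KInjLib.isKInjective_of_adj P θ adj J

theorem bijective_psi (J : CochainComplex B ℤ) [J.IsKInjective] (K : DerivedCategory A) :
    Function.Bijective (psi adj J K) := by
  haveI := isKInjective_push adj J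
  suffices h : ∀ K : CochainComplex A ℤ, Function.Bijective (psi adj J (Q.obj K)) by
    let e := Q.objObjPreimageIso K
    have h' := h (Q.objPreimage K)
    refine (congrArg Function.Bijective (funext fun y => ?_)).mp
      (((θ.mapDerivedCategory.mapIso e).homFromEquiv).bijective.comp (h'.comp e.homFromEquiv.symm.bijective))
    change θ.mapDerivedCategory.map e.inv ≫ psi adj J (Q.obj (Q.objPreimage K)) (e.hom ≫ y) = psi adj J K y
    rw [psi, psi, ← θ.mapDerivedCategory.map_comp_assoc, e.inv_hom_id_assoc]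
  intro K
  let ad := KInjLib.adjComplexes adj (ComplexShape.up ℤ)
  constructor
  · intro y y' h
    obtain ⟨a, rfl⟩ := KInjLib.exists_map_eq y
    obtain ⟨a', rfl⟩ := KInjLib.exists_map_eq y'
    rw [psi_Q_map, psi_Q_map, cancel_epi, KInjLib.map_eq_iff] at h
    obtain ⟨H⟩ := h
    refine (KInjLib.map_eq_iff a a').2 ⟨(Homotopy.ofEq ?_).trans
      (((P.mapHomotopy H).compLeft (ad.unit.app K)).trans (Homotopy.ofEq ?_))⟩
    · exact ((Equiv.apply_symm_apply (ad.homEquiv K J) a).symm.trans (ad.homEquiv_unit K J _))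
    · exact ((ad.homEquiv_unit K J _).symm.trans (Equiv.apply_symm_apply (ad.homEquiv K J) a'))
  · intro x
    obtain ⟨φ, hφ⟩ := KInjLib.exists_map_eq (θ.mapDerivedCategoryFactors.inv.app K ≫ x)
    refine ⟨Q.map (ad.homEquiv K J φ), ?_⟩
    rw [psi_Q_map, Equiv.symm_apply_apply, hφ, Iso.hom_inv_id_app_assoc]

theorem psi_comp {L : CochainComplex A ℤ} {J : CochainComplex B ℤ} (q : (cx θ).obj L ⟶ J)
    {K : DerivedCategory A} (x : K ⟶ Q.obj L) :
    psi adj J K (x ≫ Q.map (adjunct adj q)) =
      θ.mapDerivedCategory.map x ≫ θ.mapDerivedCategoryFactors.hom.app L ≫ Q.map q := by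
  have h := psi_Q_map adj J (adjunct adj q)
  rw [adjunct, Equiv.symm_apply_apply] at h
  rw [← h]
  simp only [psi, Functor.map_comp, assoc]
  rfl

/-- The derived functor is bijective on maps to `L` iff composition with the adjunct is. -/
theorem bijective_map_iff {L : CochainComplex A ℤ} {J : CochainComplex B ℤ} [J.IsKInjective]
    (q : (cx θ).obj L ⟶ J) [_root_.QuasiIso q] (K : DerivedCategory A) :
    Function.Bijective (fun x : K ⟶ Q.obj L => θ.mapDerivedCategory.map x) ↔
      Function.Bijective (fun x : K ⟶ Q.obj L => x ≫ Q.map (adjunct adj q)) := by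
  let e : θ.mapDerivedCategory.obj (Q.obj L) ≅ Q.obj J :=
    θ.mapDerivedCategoryFactors.app L ≪≫ asIso (Q.map q)
  have h : (psi adj J K ∘ fun x : K ⟶ Q.obj L => x ≫ Q.map (adjunct adj q)) =
      e.homToEquiv ∘ fun x : K ⟶ Q.obj L => θ.mapDerivedCategory.map x := funext fun x => psi_comp adj q x
  constructor
  · intro hb
    refine (Function.Bijective.of_comp_iff' (bijective_psi adj J K) _).1 ?_
    rw [h]
    exact e.homToEquiv.bijective.comp hb
  · intro hb
    refine (Function.Bijective.of_comp_iff' e.homToEquiv.bijective _).1 ?_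
    rw [← h]
    exact (bijective_psi adj J K).comp hb

/-- If the adjunct of some resolution is a quasi-isomorphism, the derived functor is bijective on maps to it. -/
theorem bijective_map_of_quasiIso {L : CochainComplex A ℤ} {J : CochainComplex B ℤ} [J.IsKInjective]
    (q : (cx θ).obj L ⟶ J) [_root_.QuasiIso q] (hη : _root_.QuasiIso (adjunct adj q)) (K : DerivedCategory A) :
    Function.Bijective (fun x : K ⟶ Q.obj L => θ.mapDerivedCategory.map x) :=
  (bijective_map_iff adj q K).2 (asIso (Q.map (adjunct adj q))).homToEquiv.bijective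

theorem plus_singleFunctor (G : A) (n : ℤ) : TStructure.t.plus ((singleFunctor A n).obj G) :=
  ⟨n, inferInstance⟩

/-- A map bijective on maps from bounded below objects is invertible. -/
theorem isIso_of_bijective [IsGrothendieckAbelian.{v₁} A] {X Y : DerivedCategory A} (f : X ⟶ Y)
    (h : ∀ (G : A) (n : ℤ), Function.Bijective fun x : (singleFunctor A n).obj G ⟶ X => x ≫ f) : IsIso f := by
  obtain ⟨Z, g, δ, hT⟩ := Pretriangulated.distinguished_cocone_triangle f
  refine (Pretriangulated.Triangle.isZero₃_iff_isIso₁ _ hT).1 ?_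
  change IsZero Z
  have h0 : ∀ (G : A) (n : ℤ) (t : (singleFunctor A n).obj G ⟶ Z), t = 0 := by
    intro G n t
    have hδ : t ≫ δ = 0 := by
      have hz : (t ≫ δ) ≫ f⟦(1 : ℤ)⟧' = 0 := by
        rw [assoc, show δ ≫ f⟦(1 : ℤ)⟧' = 0 from Pretriangulated.comp_distTriang_mor_zero₃₁ _ hT, comp_zero]
      let e : (singleFunctor A n).obj G ≅ ((singleFunctor A (n + 1)).obj G)⟦(1 : ℤ)⟧ :=
        ((DerivedCategory.singleFunctors A).shiftIso 1 n (n + 1) (add_comm _ _)).symm.app G
      obtain ⟨u, hu⟩ := (shiftFunctor (DerivedCategory A) (1 : ℤ)).map_surjective (e.inv ≫ t ≫ δ)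
      have hu0 : u ≫ f = 0 := (shiftFunctor (DerivedCategory A) (1 : ℤ)).map_injective (by
        rw [Functor.map_comp, hu, assoc, hz, comp_zero, Functor.map_zero])
      have : u = 0 := (h G (n + 1)).1 (by simpa using hu0)
      rw [← cancel_epi e.inv, ← hu, this, Functor.map_zero, comp_zero]
    obtain ⟨s, rfl⟩ := Pretriangulated.Triangle.coyoneda_exact₃ _ hT t hδ
    obtain ⟨r, rfl⟩ := (h G n).2 s
    change (r ≫ f) ≫ g = 0
    rw [assoc, show f ≫ g = 0 from Pretriangulated.comp_distTriang_mor_zero₁₂ _ hT, comp_zero]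
  obtain ⟨I, hI, ⟨eZ⟩⟩ := KInjLib.exists_iso_kInjective Z
  refine IsZero.of_iso ?_ eZ
  have hac : I.Acyclic := fun n => by
    let φ : (HomologicalComplex.single A (ComplexShape.up ℤ) n).obj (I.cycles n) ⟶ I :=
      HomologicalComplex.mkHomFromSingle (I.iCycles n) (fun k _ => I.iCycles_d n k)
    have hφ : Q.map φ = Q.map 0 := by
      have h1 := h0 (I.cycles n) n ((singleFunctorIsoCompQ A n).hom.app _ ≫ Q.map φ ≫ eZ.inv)
      rw [Q.map_zero]
      rwa [← assoc, ← cancel_mono eZ.hom, assoc, eZ.inv_hom_id, comp_id, zero_comp,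
        ← cancel_epi ((singleFunctorIsoCompQ A n).inv.app _), Iso.inv_hom_id_app_assoc, comp_zero] at h1
    obtain ⟨H⟩ := (KInjLib.map_eq_iff φ 0).1 hφ
    have hc := H.comm n
    simp only [HomologicalComplex.zero_f, add_zero, dNext_eq _ (show (ComplexShape.up ℤ).Rel n (n + 1) from rfl),
      prevD_eq _ (show (ComplexShape.up ℤ).Rel (n - 1) n from by simp)] at hc
    simp only [HomologicalComplex.single_obj_d, zero_comp, zero_add] at hc
    simp only [φ, HomologicalComplex.mkHomFromSingle_f] at hc
    have hc' : I.iCycles n = (HomologicalComplex.singleObjXSelf (ComplexShape.up ℤ) n (I.cycles n)).inv ≫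
        H.hom n (n - 1) ≫ I.d (n - 1) n := by
      rw [← hc, Iso.inv_hom_id_assoc]
    rw [HomologicalComplex.exactAt_iff_isZero_homology, IsZero.iff_id_eq_zero,
      ← cancel_epi (I.homologyπ n), comp_zero, comp_id]
    have : 𝟙 (I.cycles n) = ((HomologicalComplex.singleObjXSelf (ComplexShape.up ℤ) n (I.cycles n)).inv ≫
        H.hom n (n - 1)) ≫ I.toCycles (n - 1) n := by
      rw [← cancel_mono (I.iCycles n), id_comp, assoc, HomologicalComplex.toCycles_i, assoc, ← hc']
    rw [← id_comp (I.homologyπ n), this, assoc, HomologicalComplex.toCycles_comp_homologyπ, comp_zero]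
  haveI : _root_.QuasiIso (0 : I ⟶ I) := ⟨fun i => (quasiIsoAt_iff_exactAt _ i (hac i)).2 (hac i)⟩
  have h1 : IsIso (Q.map (0 : I ⟶ I)) := inferInstance
  rw [Q.map_zero] at h1
  rw [IsZero.iff_id_eq_zero, ← cancel_epi (0 : Q.obj I ⟶ Q.obj I), comp_id, comp_zero]

/-- If the derived functor is fully faithful on bounded below objects, the adjunct of a resolution is a
quasi-isomorphism. -/
theorem quasiIso_adjunct_of_bijective [IsGrothendieckAbelian.{v₁} A] {L : CochainComplex A ℤ}
    {J : CochainComplex B ℤ} [J.IsKInjective] (q : (cx θ).obj L ⟶ J) [_root_.QuasiIso q]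
    (hL : TStructure.t.plus (Q.obj L))
    (h : ∀ K M : DerivedCategory.Plus A, Function.Bijective fun x : K.obj ⟶ M.obj => θ.mapDerivedCategory.map x) :
    _root_.QuasiIso (adjunct adj q) := by
  rw [← isIso_Q_map_iff_quasiIso]
  refine isIso_of_bijective _ fun G n => ?_
  exact (bijective_map_iff adj q _).1 (h ⟨_, plus_singleFunctor G n⟩ ⟨_, hL⟩)

end Groth.Agent.FibLocal8
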