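import Groth.Agent.Lib.FibLocal8.Open
import Groth.Agent.Lib.FibSplit8.Main

/-!
# Restriction to an open sub-family commutes with inverse and direct image
-/

set_option autoImplicit false
set_option backward.isDefEq.respectTransparency false
set_option backward.isDefEq.respectTransparency.types false
set_option maxHeartbeats 1000000

universe u

open CategoryTheory CategoryTheory.Limits Opposite TopologicalSpace Pseudofunctor.CoGrothendieck FibDesc
open Groth.Agent.FibSplit8

noncomputable section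

namespace Groth.Agent.FibLocal8

variable {D : Type} [Category.{0} D] {Y' Y : (WithInitial D)ᵒᵖ ⥤ TopCat.{u}} (O : OpenSub Y' Y)

local notation "FY" => topAug Y
local notation "JY" => topAugTop Y
local notation "GY" => topAug Y'
local notation "KY" => topAugTop Y'

instance (i : (WithInitial D)ᵒᵖ) : (O.img i).IsContinuous (KY i) (JY i) := O.img_continuous i

instance (i : (WithInitial D)ᵒᵖ) : (Opens.map (O.j.app i)).IsContinuous (JY i) (KY i) :=
  inferInstanceAs ((Opens.map (O.j.app i)).IsContinuous _ _)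

/-- Restriction on the total sites. -/
abbrev OpenSub.rT : TSh Y ⥤ TSh Y' :=
  O.Im.sheafPushforwardContinuous AddCommGrpCat.{u} (totAug GY KY) (totAug FY JY)

/-- Restriction on the total sites of the parts. -/
abbrev OpenSub.rP : PSh Y ⥤ PSh Y' :=
  O.ImPart.sheafPushforwardContinuous AddCommGrpCat.{u} (totPart GY KY) (totPart FY JY)

/-- Restriction on a fibre. -/
abbrev OpenSub.rI (i : (WithInitial D)ᵒᵖ) :
    Sheaf (JY i) AddCommGrpCat.{u} ⥤ Sheaf (KY i) AddCommGrpCat.{u} :=
  (O.img i).sheafPushforwardContinuous AddCommGrpCat.{u} (KY i) (JY i)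

/-- Restriction on a fibre is left adjoint to direct image. -/
abbrev OpenSub.adjI (i : (WithInitial D)ᵒᵖ) : O.rI i ⊣
    (Opens.map (O.j.app i)).sheafPushforwardContinuous AddCommGrpCat.{u} (JY i) (KY i) :=
  (O.emb i).isOpenMap.adjunction.sheafPushforwardContinuous (KY i) (JY i)

/-- Restriction commutes with the evaluation at a fibre. -/
def OpenSub.cmp (i : (WithInitial D)ᵒᵖ) : rs Y i ⋙ O.rI i ≅ O.rT ⋙ rs Y' i :=
  NatIso.ofComponents (fun M => (fullyFaithfulSheafToPresheaf _ _).preimageIso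
    (NatIso.ofComponents (fun U => Iso.refl _) fun g => by
      change M.obj.map _ ≫ 𝟙 _ = 𝟙 _ ≫ M.obj.map _
      rw [Category.comp_id, Category.id_comp]
      exact congrArg M.obj.map (Quiver.Hom.unop_inj (hom_ext Y rfl))))
    fun φ => by
      apply Sheaf.hom_ext
      ext U : 2
      change _ ≫ 𝟙 _ = 𝟙 _ ≫ _
      rw [Category.comp_id, Category.id_comp]
      rfl

/-- Restriction commutes with forgetting the augmentation. -/
def OpenSub.cmpIncl : O.rT ⋙ inclR Y' ≅ inclR Y ⋙ O.rP :=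
  NatIso.ofComponents (fun M => (fullyFaithfulSheafToPresheaf _ _).preimageIso
    (NatIso.ofComponents (fun U => Iso.refl _) fun g => by
      change M.obj.map _ ≫ 𝟙 _ = 𝟙 _ ≫ M.obj.map _
      rw [Category.comp_id, Category.id_comp]
      exact congrArg M.obj.map (Quiver.Hom.unop_inj (hom_ext Y rfl))))
    fun φ => by
      apply Sheaf.hom_ext
      ext U : 2
      change _ ≫ 𝟙 _ = 𝟙 _ ≫ _
      rw [Category.comp_id, Category.id_comp]
      rfl

theorem OpenSub.preimage_eps (i : (WithInitial D)ᵒᵖ) (U : Opens (Y.obj (bot D))) :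
    (Opens.map (O.j.app i)).obj ((Opens.map (epsMap Y i)).obj U) =
      (Opens.map (epsMap Y' i)).obj ((Opens.map (O.j.app (bot D))).obj U) := by
  rw [← Opens.map_comp_obj, ← Opens.map_comp_obj, ← O.j.naturality (botTerminal.from i)]

theorem cart_restrict {M : TSh Y} (hM : Cart Y M) : Cart Y' (O.rT.obj M) := by
  intro i A
  let A₁ := ((Opens.map (O.j.app i)).sheafPushforwardContinuous AddCommGrpCat.{u} (JY i) (KY i)).obj A
  let κ : (pushE Y i).obj A₁ ⟶
      ((Opens.map (O.j.app (bot D))).sheafPushforwardContinuous AddCommGrpCat.{u} (JY (bot D)) (KY (bot D))).obj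
        ((pushE Y' i).obj A) :=
    { hom :=
        { app := fun U => A.obj.map (eqToHom (C := Opens (Y'.obj i)) (O.preimage_eps i U.unop).symm).op
          naturality := fun U V g => (A.obj.map_comp _ _).symm.trans
            ((congrArg A.obj.map (Subsingleton.elim _ _)).trans (A.obj.map_comp _ _)) } }
  haveI : IsIso κ := by
    refine @isIso_of_reflects_iso _ _ _ _ _ _ κ (sheafToPresheaf _ _) ?_ _
    refine @NatIso.isIso_of_isIso_app _ _ _ _ _ _ _ fun U => ?_
    change IsIso (A.obj.map (eqToHom (C := Opens (Y'.obj i)) (O.preimage_eps i U.unop).symm).op)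
    infer_instance
  let e₁ := ((O.cmp i).app M).homFromEquiv (Z := A)
  let e₂ := (O.adjI i).homEquiv ((rs Y i).obj M) A
  let e₃ := (asIso κ).homToEquiv (Z := (rs Y (bot D)).obj M)
  let e₄ := ((O.adjI (bot D)).homEquiv ((rs Y (bot D)).obj M) ((pushE Y' i).obj A)).symm
  let e₅ := ((O.cmp (bot D)).app M).homFromEquiv (Z := (pushE Y' i).obj A)
  refine (congrArg Function.Bijective (funext fun φ => ?_)).mp
    ((e₅.bijective.comp (e₄.bijective.comp (e₃.bijective.comp ((hM i A₁).comp e₂.bijective)))).comp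
      e₁.symm.bijective)
  apply Sheaf.hom_ext
  ext U : 2
  simp only [Function.comp_apply, e₁, e₂, e₃, e₄, e₅, Iso.homFromEquiv_apply, Iso.homFromEquiv_symm_apply,
    Iso.homToEquiv_apply, Adjunction.homEquiv_unit, Adjunction.homEquiv_counit, asIso_hom]
  change 𝟙 _ ≫ ((M.obj.map (toBot Y i _).op ≫ (M.obj.map _ ≫ (𝟙 _ ≫ φ.hom.app _))) ≫ A.obj.map _) ≫ A.obj.map _ =
    M.obj.map (O.Im.map (toBot Y' i U.unop)).op ≫ φ.hom.app _
  simp only [Category.id_comp, Category.assoc]
  erw [← A.obj.map_comp, ← φ.hom.naturality]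
  rw [← Category.assoc, ← Category.assoc]
  refine congrArg (· ≫ _) ?_
  exact (congrArg (· ≫ _) (M.obj.map_comp _ _).symm).trans
    ((M.obj.map_comp _ _).symm.trans (congrArg M.obj.map (Quiver.Hom.unop_inj (hom_ext Y (botTerminal.hom_ext _ _)))))

/-- The comparison of extensions from the base. -/
def OpenSub.zeta (G : Sheaf (JY (bot D)) AddCommGrpCat.{u}) :
    ext₀ Y' ((O.rI (bot D)).obj G) ⟶ O.rT.obj (ext₀ Y G) :=
  ((adj₀ Y').homEquiv _ _).symm ((O.rI (bot D)).map ((adj₀ Y).unit.app G) ≫ (O.cmp (bot D)).hom.app (ext₀ Y G))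

instance isIso_zeta (G : Sheaf (JY (bot D)) AddCommGrpCat.{u}) : IsIso (O.zeta G) := by
  let ad := adj₀ Y'
  have hf : IsIso ((O.rI (bot D)).map ((adj₀ Y).unit.app G) ≫ (O.cmp (bot D)).hom.app (ext₀ Y G)) := inferInstance
  have hc : IsIso (ad.counit.app (O.rT.obj (ext₀ Y G))) := by
    have hM := cart_restrict O (cart_ext₀ Y G)
    let X := O.rT.obj (ext₀ Y G)
    let E := ext₀ Y' ((rs Y' (bot D)).obj X)
    haveI : IsIso ((rs Y' (bot D)).map (ad.counit.app X)) := by
      exact IsIso.of_isIso_fac_left (ad.right_triangle_components X)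
    obtain ⟨r, hr⟩ := (bijective_restr_bot Y' hM E).2 (inv ((rs Y' (bot D)).map (ad.counit.app X)))
    change (rs Y' (bot D)).map r = _ at hr
    exact ⟨r, (bijective_restr_bot Y' (cart_ext₀ Y' _) E).1
      (show (rs Y' (bot D)).map _ = (rs Y' (bot D)).map _ by
        rw [Functor.map_comp, hr, IsIso.hom_inv_id]
        exact ((rs Y' (bot D)).map_id _).symm),
      (bijective_restr_bot Y' hM X).1 (show (rs Y' (bot D)).map _ = (rs Y' (bot D)).map _ by
        rw [Functor.map_comp, hr, IsIso.inv_hom_id]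
        exact ((rs Y' (bot D)).map_id _).symm)⟩
  rw [OpenSub.zeta, Adjunction.homEquiv_counit]
  haveI := hf; haveI := hc
  exact IsIso.comp_isIso

/-- Restriction commutes with inverse image. -/
def OpenSub.xi (G : Sheaf (JY (bot D)) AddCommGrpCat.{u}) :
    (pull GY KY AddCommGrpCat.{u}).obj ((O.rI (bot D)).obj G) ⟶ O.rP.obj ((pull FY JY AddCommGrpCat.{u}).obj G) :=
  (inclR Y').map (O.zeta G) ≫ O.cmpIncl.hom.app (ext₀ Y G)

instance isIso_xi (G : Sheaf (JY (bot D)) AddCommGrpCat.{u}) : IsIso (O.xi G) := by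
  haveI : IsIso ((inclR Y').map (O.zeta G)) := Functor.map_isIso _ _
  exact IsIso.comp_isIso' this inferInstance

/-- Coextension from the part. -/
abbrev ccR (Z : (WithInitial D)ᵒᵖ ⥤ TopCat.{u}) : PSh Z ⥤ TSh Z :=
  (incl (topAug Z)).sheafPushforwardCocontinuous AddCommGrpCat.{u} (totPart (topAug Z) (topAugTop Z))
    (totAug (topAug Z) (topAugTop Z))

/-- Its adjunction. -/
abbrev adjR (Z : (WithInitial D)ᵒᵖ ⥤ TopCat.{u}) : inclR Z ⊣ ccR Z :=
  (incl (topAug Z)).sheafAdjunctionCocontinuous AddCommGrpCat.{u} (totPart (topAug Z) (topAugTop Z))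
    (totAug (topAug Z) (topAugTop Z))

/-- The comparison of coextensions. -/
def OpenSub.betaT (M : PSh Y) : O.rT.obj ((ccR Y).obj M) ⟶ (ccR Y').obj (O.rP.obj M) :=
  (adjR Y').homEquiv _ _ (O.cmpIncl.hom.app ((ccR Y).obj M) ≫ O.rP.map ((adjR Y).counit.app M))

/-- The comparison of direct images. -/
def OpenSub.beta (M : PSh Y) : (O.rI (bot D)).obj ((push FY JY AddCommGrpCat.{u}).obj M) ⟶
    (push GY KY AddCommGrpCat.{u}).obj (O.rP.obj M) :=
  (O.cmp (bot D)).hom.app ((ccR Y).obj M) ≫ (rs Y' (bot D)).map (O.betaT M)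

theorem compat {G : Sheaf (JY (bot D)) AddCommGrpCat.{u}} {M : PSh Y}
    (φ : (pull FY JY AddCommGrpCat.{u}).obj G ⟶ M) :
    (FibDesc.adj GY KY AddCommGrpCat.{u}).homEquiv _ _ (O.xi G ≫ O.rP.map φ) =
      (O.rI (bot D)).map ((FibDesc.adj FY JY AddCommGrpCat.{u}).homEquiv _ _ φ) ≫ O.beta M := by
  have h1 : (adjR Y').homEquiv _ _ (O.cmpIncl.hom.app (ext₀ Y G) ≫ O.rP.map φ) =
      O.rT.map ((adjR Y).homEquiv _ _ φ) ≫ O.betaT M := by
    rw [OpenSub.betaT, ← Adjunction.homEquiv_naturality_left]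
    congr 1
    have h := O.cmpIncl.hom.naturality ((adjR Y).homEquiv _ _ φ)
    simp only [Functor.comp_map] at h
    rw [← Category.assoc, h, Category.assoc, ← Functor.map_comp]
    congr 2
    exact ((adjR Y).homEquiv_counit _ _ _).symm.trans (Equiv.symm_apply_apply _ _) |>.symm
  simp only [FibDesc.adj, Adjunction.comp_homEquiv, Equiv.trans_apply]
  change (adj₀ Y').homEquiv _ _ ((adjR Y').homEquiv _ _ (O.xi G ≫ O.rP.map φ)) =
    (O.rI (bot D)).map ((adj₀ Y).homEquiv _ _ ((adjR Y).homEquiv _ _ φ)) ≫ O.beta M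
  rw [OpenSub.xi, Category.assoc]
  erw [(adjR Y').homEquiv_naturality_left]
  rw [h1, (adj₀ Y').homEquiv_naturality_right, OpenSub.zeta, Equiv.apply_symm_apply, OpenSub.beta,
    (adj₀ Y).homEquiv_unit]
  simp only [Functor.map_comp, Category.assoc]
  refine congrArg ((O.rI (bot D)).map _ ≫ ·) ?_
  have h2 := (O.cmp (bot D)).hom.naturality ((adjR Y).homEquiv _ _ φ)
  simp only [Functor.comp_map] at h2
  rw [← Category.assoc, ← h2, Category.assoc]

end Groth.Agent.FibLocal8
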