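import Groth.Agent.Lib.FibLocal8.Main
import Groth.Agent.Lib.FibSplit8.Cech
import Mathlib.Topology.IsLocalHomeomorph

/-!
# The Čech nerve of a base change to an open subset; cohomological descent of local homeomorphisms
-/

set_option autoImplicit false
set_option backward.isDefEq.respectTransparency false
set_option backward.isDefEq.respectTransparency.types false

universe u

open CategoryTheory CategoryTheory.Limits Opposite TopologicalSpace FibDesc Topology
open Groth.Agent.FibSplit8

noncomputable section

namespace Groth.Agent.FibLocal8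

variable {X S : TopCat.{u}} (u : X ⟶ S) (V : Opens S)

/-- The inclusion of an open subset. -/
abbrev incV : TopCat.of V ⟶ S := TopCat.ofHom ⟨Subtype.val, continuous_subtype_val⟩

theorem incV_isOpenEmbedding : IsOpenEmbedding (incV V) := V.isOpen.isOpenEmbedding_subtypeVal

/-- The base change. -/
abbrev bc : pullback u (incV V) ⟶ TopCat.of V := pullback.snd u (incV V)

/-- The morphism of arrows. -/
def bcArrow : Arrow.mk (bc u V) ⟶ Arrow.mk u :=
  Arrow.homMk (pullback.fst u (incV V)) (incV V) pullback.condition

/-- The morphism of augmented Čech nerves. -/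
def cechJ : cechAug (bc u V) ⟶ cechAug u :=
  AugmentedSimplexCategory.equivAugmentedSimplicialObject.inverse.map (Arrow.mapAugmentedCechNerve (bcArrow u V))

/-- Its components. -/
def jN (n : SimplexCategory) : W (bc u V) n ⟶ W u n := (cechJ u V).app (op (WithInitial.of n))

theorem jN_π (n : SimplexCategory) (i : Fin (n.len + 1)) :
    jN u V n ≫ wπ u n i = wπ (bc u V) n i ≫ pullback.fst u (incV V) :=
  WidePullback.lift_π _ _ _ _ _

theorem jN_base (n : SimplexCategory) : jN u V n ≫ wb u n = wb (bc u V) n ≫ incV V :=
  WidePullback.lift_base _ _ _ _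

theorem isPullback_jN (n : SimplexCategory) : IsPullback (jN u V n) (wb (bc u V) n) (wb u n) (incV V) := by
  refine ⟨⟨jN_base u V n⟩, ⟨PullbackCone.IsLimit.mk _ (fun c => WidePullback.lift c.snd
    (fun i => pullback.lift (c.fst ≫ wπ u n i) c.snd ?_) (fun i => pullback.lift_snd _ _ _)) (fun c => ?_)
    (fun c => WidePullback.lift_base _ _ _ _) (fun c m h₁ h₂ => ?_)⟩⟩
  · rw [Category.assoc, WidePullback.π_arrow, c.condition]
  · apply w_ext
    · intro i
      rw [Category.assoc, jN_π, ← Category.assoc]
      exact (congrArg (· ≫ pullback.fst u (incV V)) (WidePullback.lift_π _ _ _ _ i)).trans (pullback.lift_fst _ _ _)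
    · rw [Category.assoc, jN_base, ← Category.assoc]
      exact (congrArg (· ≫ incV V) (WidePullback.lift_base _ _ _ _)).trans c.condition.symm
  · apply w_ext
    · intro i
      rw [WidePullback.lift_π]
      apply pullback.hom_ext
      · rw [pullback.lift_fst, Category.assoc, ← jN_π, ← Category.assoc, h₁]
      · rw [pullback.lift_snd, Category.assoc, WidePullback.π_arrow]
        exact h₂
    · exact h₂.trans (WidePullback.lift_base _ _ _ _).symm

theorem jN_isOpenEmbedding (n : SimplexCategory) : IsOpenEmbedding (jN u V n) := by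
  rw [← (isPullback_jN u V n).isoPullback_hom_fst]
  exact (TopCat.fst_isOpenEmbedding_of_right (wb u n) (incV_isOpenEmbedding V)).comp
    (TopCat.homeoOfIso (isPullback_jN u V n).isoPullback).isOpenEmbedding

theorem mem_range_jN (n : SimplexCategory) (x : W u n) (hx : wb u n x ∈ Set.range (incV V)) :
    x ∈ Set.range (jN u V n) := by
  obtain ⟨y, hy⟩ := hx
  have h : x ∈ Set.range (pullback.fst (wb u n) (incV V)) := by
    rw [TopCat.pullback_fst_range]
    exact ⟨y, hy.symm⟩
  obtain ⟨z, rfl⟩ := h
  refine ⟨(isPullback_jN u V n).isoPullback.inv z, ?_⟩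
  exact congrArg (fun φ => φ z) (isPullback_jN u V n).isoPullback_inv_fst

/-- The Čech nerve of the base change as an open sub-family. -/
def cechOpenSub : OpenSub (cechAug (bc u V)) (cechAug u) where
  j := cechJ u V
  emb i := by
    obtain ⟨i⟩ := i
    cases i with
    | star => exact incV_isOpenEmbedding V
    | of n => exact jN_isOpenEmbedding u V n
  cart i x hx := by
    obtain ⟨i⟩ := i
    cases i with
    | star =>
      have e : epsMap (cechAug u) (bot SimplexCategory) = 𝟙 _ := epsMap_bot _
      have e' := congrArg (fun φ => φ x) e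
      obtain ⟨y, hy⟩ := hx
      exact ⟨y, hy.trans e'⟩
    | of n => exact mem_range_jN u V n x hx

/-- Cohomological descent of a map is local on the base. -/
theorem isCohDescentMap_of_openCover_base {ι : Type u} (Vs : ι → Opens S) (hV : ∀ x : S, ∃ i, x ∈ Vs i)
    (h : ∀ i, IsCohDescentMap (bc u (Vs i))) : IsCohDescentMap u :=
  isCohDescentTop_of_cover (fun i => cechAug (bc u (Vs i))) (fun i => cechOpenSub u (Vs i))
    (fun x => (hV x).imp fun i hi => ⟨(⟨x, hi⟩ : TopCat.of (Vs i)), rfl⟩) h

/-- A map having local sections around each point of the base is universally of cohomological descent. -/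
theorem isUnivCohDescentMap_of_local_sections
    (hs : ∀ s : S, ∃ (W : Opens S) (σ : TopCat.of W ⟶ X), s ∈ W ∧ σ ≫ u = incV W) : IsUnivCohDescentMap u := by
  intro S' g
  choose W σ hW hσ using hs
  let Ws : S' → Opens S' := fun s => (Opens.map g).obj (W (g s))
  refine isCohDescentMap_of_openCover_base _ Ws (fun s => ⟨s, hW (g s)⟩) fun s => ?_
  let gs : TopCat.of (Ws s) ⟶ TopCat.of (W (g s)) :=
    TopCat.ofHom ⟨fun y => ⟨g y.1, y.2⟩, Continuous.subtype_mk (g.hom.continuous.comp continuous_subtype_val) _⟩
  let τ : TopCat.of (Ws s) ⟶ pullback u g :=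
    pullback.lift (gs ≫ σ (g s)) (incV (Ws s)) (by rw [Category.assoc, hσ]; rfl)
  exact isCohDescentMap_of_section _ (pullback.lift τ (𝟙 _) (by rw [pullback.lift_snd, Category.id_comp]))
    (pullback.lift_snd _ _ _)

/-- A surjective local homeomorphism is universally of cohomological descent. -/
theorem isUnivCohDescentMap_of_isLocalHomeomorph (hf : IsLocalHomeomorph u) (hsurj : Function.Surjective u) :
    IsUnivCohDescentMap u := by
  refine isUnivCohDescentMap_of_local_sections u fun s => ?_
  obtain ⟨x, rfl⟩ := hsurj s
  obtain ⟨e, hx, he⟩ := hf x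
  refine ⟨⟨e.target, e.open_target⟩,
    TopCat.ofHom ⟨fun y => e.symm y.1, continuousOn_iff_continuous_restrict.1 e.continuousOn_symm⟩, ?_, ?_⟩
  · rw [he]; exact e.map_source hx
  · ext y
    exact (congrFun he _).trans (e.right_inv y.2)

end Groth.Agent.FibLocal8
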