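import Groth.Agent.Lib.FibLocal8.Restrict
import Mathlib.Algebra.Homology.ShortComplex.ExactFunctor

/-!
# Direct image commutes with restriction, and restriction has an exact left adjoint
-/

set_option autoImplicit false
set_option backward.isDefEq.respectTransparency false
set_option backward.isDefEq.respectTransparency.types false
set_option maxHeartbeats 1000000

universe u

open CategoryTheory CategoryTheory.Limits Opposite TopologicalSpace Pseudofunctor.CoGrothendieck FibDesc
open Groth.Agent.FibSplit8

noncomputable section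

namespace Groth.Agent.FibLocal8

variable {D : Type} [Category.{0} D] {Y' Y : (WithInitial D)ᵒᵖ ⥤ TopCat.{u}} (O : OpenSub Y' Y)

local notation "FY" => topAug Y
local notation "JY" => topAugTop Y
local notation "GY" => topAug Y'
local notation "KY" => topAugTop Y'

/-- An object of the part over an image is an image. -/
theorem exists_preimage (a : ∫ᶜ (part FY)) (i : Dᵒᵖ) (f : a.base ⟶ i) (W : Opens (Y'.obj ((toAug D).obj i)))
    (h : @LE.le (Opens (Y.obj ((toAug D).obj a.base))) _ a.fiber
      ((Opens.map (Y.map ((toAug D).map f))).obj ((O.img ((toAug D).obj i)).obj W))) :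
    (a.fiber : Opens (Y.obj ((toAug D).obj a.base))) =
      (O.img ((toAug D).obj a.base)).obj ((Opens.map (O.j.app ((toAug D).obj a.base))).obj a.fiber) := by
  refine O.img_preimage ((toAug D).obj a.base) fun x hx => O.cart _ x ?_
  obtain ⟨y, hy, hyx⟩ := h hx
  refine ⟨epsMap Y' ((toAug D).obj i) y, ?_⟩
  have h1 := congrArg (fun φ => φ y) (O.j.naturality (botTerminal.from ((toAug D).obj i)))
  refine h1.trans ((congrArg (fun z => epsMap Y ((toAug D).obj i) z) hyx).trans ?_)
  exact congrArg (fun φ => φ x) ((Y.map_comp ((toAug D).map f) (botTerminal.from _)).symm.trans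
    (congrArg Y.map (botTerminal.hom_ext _ _)))

theorem mono_lan_ImPart_app {P Q : (∫ᶜ (part GY))ᵒᵖ ⥤ AddCommGrpCat.{u}} (φ : P ⟶ Q) [Mono φ]
    (X : (∫ᶜ (part FY))ᵒᵖ) : Mono ((O.ImPart.op.lan.map φ).app X) := by
  let C := CostructuredArrow O.ImPart.op X
  let pr : C ⥤ (∫ᶜ (part GY))ᵒᵖ := CostructuredArrow.proj O.ImPart.op X
  suffices Mono (((Functor.whiskeringLeft _ _ AddCommGrpCat.{u}).obj pr ⋙ colim).map φ) by
    have e := (lanEvaluationIsoColim AddCommGrpCat.{u} O.ImPart.op X).hom.naturality φ
    haveI : Mono ((O.ImPart.op.lan ⋙ (evaluation _ AddCommGrpCat.{u}).obj X).map φ ≫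
        (lanEvaluationIsoColim AddCommGrpCat.{u} O.ImPart.op X).hom.app Q) := by
      rw [e]; infer_instance
    exact mono_of_mono ((O.ImPart.op.lan ⋙ (evaluation _ AddCommGrpCat.{u}).obj X).map φ)
      ((lanEvaluationIsoColim AddCommGrpCat.{u} O.ImPart.op X).hom.app Q)
  by_cases hne : Nonempty C
  · obtain ⟨a⟩ := hne
    have ha := exists_preimage O X.unop a.left.unop.base a.hom.unop.base a.left.unop.fiber
      (leOfHom (X := Opens (Y.obj ((toAug D).obj X.unop.base))) a.hom.unop.fiber)
    let T₀ := mkObjPart Y' X.unop.base ((Opens.map (O.j.app ((toAug D).obj X.unop.base))).obj X.unop.fiber)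
    let T : C := CostructuredArrow.mk (Y := op T₀)
      ((homMkPart (a := X.unop) (b := O.ImPart.obj T₀) (𝟙 X.unop.base) (le_trans (le_of_eq ha) (le_of_eq (by
        rw [(toAug D).map_id]
        exact (map_id_obj ((toAug D).obj X.unop.base) _).symm)))).op)
    have hT : IsTerminal T := IsTerminal.ofUniqueHom (fun b => CostructuredArrow.homMk
      (homMkPart (a := T₀) (b := b.left.unop) b.hom.unop.base (by
        intro x hx
        exact O.mem_of_mem_img ((toAug D).map b.hom.unop.base)
          (leOfHom (X := Opens (Y.obj ((toAug D).obj X.unop.base))) b.hom.unop.fiber hx))).op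
      (Quiver.Hom.unop_inj (hom_ext_part (Category.id_comp _))))
      (fun b m => CostructuredArrow.hom_ext _ _ (Quiver.Hom.unop_inj (hom_ext_part
        ((Category.id_comp _).symm.trans
          (congrArg (fun g => g.unop.base) (CostructuredArrow.w m))))))
    haveI := isIso_ι_of_isTerminal hT (pr ⋙ P)
    haveI := isIso_ι_of_isTerminal hT (pr ⋙ Q)
    change Mono (colim.map (Functor.whiskerLeft pr φ))
    have e : colimit.ι (pr ⋙ P) T ≫ colim.map (Functor.whiskerLeft pr φ) = φ.app _ ≫ colimit.ι (pr ⋙ Q) T :=
      ι_colimMap _ T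
    rw [show colim.map (Functor.whiskerLeft pr φ) = inv (colimit.ι (pr ⋙ P) T) ≫ φ.app _ ≫ colimit.ι (pr ⋙ Q) T by
      rw [← e, IsIso.inv_hom_id_assoc]]
    infer_instance
  · haveI : IsEmpty C := not_nonempty_iff.1 hne
    refine IsZero.mono ?_ _
    change IsZero (colimit (pr ⋙ P))
    rw [IsZero.iff_id_eq_zero]
    exact colimit.hom_ext fun j => isEmptyElim j

instance preservesFiniteLimits_leftAdjoint :
    PreservesFiniteLimits (O.ImPart.sheafPullback AddCommGrpCat.{u} (totPart GY KY) (totPart FY JY)) := by
  haveI hm : (O.ImPart.op.lan (H := AddCommGrpCat.{u})).PreservesMonomorphisms := ⟨fun φ _ => by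
    haveI := fun X => mono_lan_ImPart_app O φ X
    exact NatTrans.mono_of_mono_app _⟩
  let G := Functor.sheafPullbackConstruction.sheafPullback O.ImPart AddCommGrpCat.{u} (totPart GY KY) (totPart FY JY)
  let adjG : G ⊣ O.rP := Functor.sheafPullbackConstruction.sheafAdjunctionContinuous O.ImPart AddCommGrpCat.{u} _ _
  haveI := adjG.leftAdjoint_preservesColimits
  haveI := preservesBinaryBiproducts_of_preservesBinaryCoproducts G
  haveI : G.Additive := Functor.additive_of_preservesBinaryBiproducts G
  haveI : G.PreservesMonomorphisms := by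
    haveI : (sheafToPresheaf (totPart GY KY) AddCommGrpCat.{u}).PreservesMonomorphisms := inferInstance
    haveI : (presheafToSheaf (totPart FY JY) AddCommGrpCat.{u}).PreservesMonomorphisms := inferInstance
    exact Functor.preservesMonomorphisms_comp _ _
  haveI : PreservesFiniteLimits G := by
    refine (G.preservesFiniteLimits_iff_forall_exact_map_and_mono).2 fun S hS => ?_
    haveI := hS.mono_f
    exact ⟨((G.preservesFiniteColimits_iff_forall_exact_map_and_epi).1 inferInstance S hS).1, inferInstance⟩
  exact preservesFiniteLimits_of_natIso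
    (Functor.sheafPullbackConstruction.sheafPullbackIso O.ImPart AddCommGrpCat.{u} (totPart GY KY) (totPart FY JY)).symm

/-- The functor between the categories computing the direct images. -/
def shiftArrows (U : Opens (Y'.obj (bot D))) :
    StructuredArrow (op (mkObj Y' (bot D) U)) (incl GY).op ⥤
      StructuredArrow (op (mkObj Y (bot D) ((O.img (bot D)).obj U))) (incl FY).op where
  obj a := StructuredArrow.mk (Y := op (O.ImPart.obj a.right.unop))
    (homMk Y (a := (incl FY).obj (O.ImPart.obj a.right.unop)) (b := mkObj Y (bot D) ((O.img (bot D)).obj U))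
      (botTerminal.from _) (by
        refine le_trans (O.img_le_map (botTerminal.from _) ?_) le_rfl
        have h := hom_le Y' a.hom.unop
        rw [botTerminal.hom_ext a.hom.unop.base (botTerminal.from _)] at h
        exact h)).op
  map {a b} m := StructuredArrow.homMk (O.ImPart.map m.right.unop).op
    (Quiver.Hom.unop_inj (hom_ext Y (botTerminal.hom_ext _ _)))
  map_id a := StructuredArrow.hom_ext _ _ (Quiver.Hom.unop_inj (hom_ext_part rfl))
  map_comp f g := StructuredArrow.hom_ext _ _ (Quiver.Hom.unop_inj (hom_ext_part rfl))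

instance shiftArrows_isEquivalence (U : Opens (Y'.obj (bot D))) : (shiftArrows O U).IsEquivalence := by
  haveI : (shiftArrows O U).Faithful := ⟨fun {a b m m'} h => StructuredArrow.hom_ext _ _ (Quiver.Hom.unop_inj
    (hom_ext_part (congrArg (fun g => g.right.unop.base) h)))⟩
  haveI : (shiftArrows O U).Full := ⟨fun {a b} m => ⟨StructuredArrow.homMk
    (homMkPart (a := b.right.unop) (b := a.right.unop) m.right.unop.base (by
      intro x hx
      exact O.mem_of_mem_img ((toAug D).map m.right.unop.base)
        (leOfHom (X := Opens (Y.obj ((toAug D).obj b.right.unop.base))) m.right.unop.fiber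
          (show O.j.app _ x ∈ (O.img ((toAug D).obj b.right.unop.base)).obj b.right.unop.fiber from ⟨x, hx, rfl⟩)))).op
    (Quiver.Hom.unop_inj (hom_ext Y' (botTerminal.hom_ext _ _))),
    StructuredArrow.hom_ext _ _ (Quiver.Hom.unop_inj (hom_ext_part rfl))⟩⟩
  haveI : (shiftArrows O U).EssSurj := ⟨fun a => by
    have hle := hom_le Y a.hom.unop
    rw [botTerminal.hom_ext a.hom.unop.base (botTerminal.from _)] at hle
    let W := (Opens.map (O.j.app ((toAug D).obj a.right.unop.base))).obj a.right.unop.fiber
    have hW : (a.right.unop.fiber : Opens (Y.obj ((toAug D).obj a.right.unop.base))) =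
        (O.img ((toAug D).obj a.right.unop.base)).obj W := by
      refine O.img_preimage ((toAug D).obj a.right.unop.base) fun x hx => ?_
      obtain ⟨y, hy, hyx⟩ := hle hx
      exact O.cart _ x ⟨y, hyx⟩
    let a' : StructuredArrow (op (mkObj Y' (bot D) U)) (incl GY).op :=
      StructuredArrow.mk (Y := op (mkObjPart Y' a.right.unop.base W))
        (homMk Y' (a := (incl GY).obj (mkObjPart Y' a.right.unop.base W)) (b := mkObj Y' (bot D) U)
          (botTerminal.from _) (by
            intro x hx
            exact O.mem_of_mem_img (botTerminal.from ((toAug D).obj a.right.unop.base)) (hle hx))).op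
    refine ⟨a', ⟨StructuredArrow.isoMk ?_ (Quiver.Hom.unop_inj (hom_ext Y (botTerminal.hom_ext _ _)))⟩⟩
    refine Iso.op (eqToIso ?_)
    exact (congrArg (mkObjPart Y a.right.unop.base) hW)⟩
  exact {}

instance isIso_beta (M : PSh Y) : IsIso (O.beta M) := by
  haveI : IsIso ((rs Y' (bot D)).map (O.betaT M)) := by
    refine @isIso_of_reflects_iso _ _ _ _ _ _ _ (sheafToPresheaf _ _) ?_ _
    refine @NatIso.isIso_of_isIso_app _ _ _ _ _ _ _ fun U => ?_
    change IsIso ((O.betaT M).hom.app (op (mkObj Y' (bot D) U.unop)))
    let Φ := shiftArrows O U.unop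
    let c := ((Functor.RightExtension.mk _ ((incl FY).op.ranCounit.app M.obj))).coneAt
      (op (mkObj Y (bot D) ((O.img (bot D)).obj U.unop)))
    have hc : IsLimit c := Functor.isPointwiseRightKanExtensionRanCounit (incl FY).op M.obj _
    let c' := ((Functor.RightExtension.mk _ ((incl GY).op.ranCounit.app (O.rP.obj M).obj))).coneAt
      (op (mkObj Y' (bot D) U.unop))
    have hc' : IsLimit c' := Functor.isPointwiseRightKanExtensionRanCounit (incl GY).op (O.rP.obj M).obj _
    have hw : IsLimit (c.whisker Φ) := hc.whiskerEquivalence Φ.asEquivalence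
    have key : ((O.betaT M).hom.app (op (mkObj Y' (bot D) U.unop))) = (hw.conePointUniqueUpToIso hc').hom := by
      refine hc'.hom_ext fun a => ?_
      rw [IsLimit.conePointUniqueUpToIso_hom_comp]
      have hn := (O.betaT M).hom.naturality a.hom
      have hcounit : ((adjR Y).counit.app M).hom = (incl FY).op.ranCounit.app M.obj := by
        rw [Functor.sheafAdjunctionCocontinuous_counit_app_hom, Functor.ranAdjunction_counit]
      have hcounit' : ((adjR Y').counit.app (O.rP.obj M)).hom = (incl GY).op.ranCounit.app (O.rP.obj M).obj := by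
        rw [Functor.sheafAdjunctionCocontinuous_counit_app_hom, Functor.ranAdjunction_counit]
      have ht : (inclR Y').map (O.betaT M) ≫ (adjR Y').counit.app (O.rP.obj M) =
          O.cmpIncl.hom.app ((ccR Y).obj M) ≫ O.rP.map ((adjR Y).counit.app M) :=
        ((adjR Y').homEquiv_counit _ _ _).symm.trans (Equiv.symm_apply_apply _ _)
      have ht' : (O.betaT M).hom.app (op ((incl GY).obj a.right.unop)) ≫
          ((incl GY).op.ranCounit.app (O.rP.obj M).obj).app a.right =
            ((incl FY).op.ranCounit.app M.obj).app (op (O.ImPart.obj a.right.unop)) := by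
        rw [← hcounit, ← hcounit']
        exact (congrArg (fun η => η.hom.app a.right) ht).trans (Category.id_comp _)
      change (O.betaT M).hom.app _ ≫ (((ccR Y').obj (O.rP.obj M)).obj.map a.hom ≫
        ((incl GY).op.ranCounit.app (O.rP.obj M).obj).app a.right) =
        ((ccR Y).obj M).obj.map (Φ.obj a).hom ≫ ((incl FY).op.ranCounit.app M.obj).app (op (O.ImPart.obj a.right.unop))
      rw [← ht', ← Category.assoc, ← Category.assoc]
      refine congrArg (· ≫ _) (hn.symm.trans ?_)
      refine congrArg (· ≫ _) ?_
      exact congrArg ((ccR Y).obj M).obj.map (Quiver.Hom.unop_inj (hom_ext Y (botTerminal.hom_ext _ _)))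
    rw [key]
    infer_instance
  exact IsIso.comp_isIso' inferInstance this

end Groth.Agent.FibLocal8
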