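import Groth.Agent.Lib.FibLocal8.Criterion
import Groth.Agent.Lib.FibLocal8.Push
import Groth.Agent.Lib.KInj.Resolution
import Mathlib.CategoryTheory.Abelian.GrothendieckAxioms.Sheaf
import Mathlib.Algebra.Category.Grp.AB

/-!
# Cohomological descent is local on the base
-/

set_option autoImplicit false
set_option backward.isDefEq.respectTransparency false
set_option backward.isDefEq.respectTransparency.types false
set_option maxHeartbeats 1000000

universe u

open CategoryTheory CategoryTheory.Limits Opposite TopologicalSpace Pseudofunctor.CoGrothendieck FibDesc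
open Groth.Agent.FibSplit8

noncomputable section

namespace Groth.Agent.FibLocal8

variable {D : Type} [Category.{0} D] {Y' Y : (WithInitial D)ᵒᵖ ⥤ TopCat.{u}} (O : OpenSub Y' Y)

local notation "FY" => topAug Y
local notation "JY" => topAugTop Y
local notation "GY" => topAug Y'
local notation "KY" => topAugTop Y'
local notation "cS" => ComplexShape.up ℤ

theorem xi_naturality {G G' : Sheaf (JY (bot D)) AddCommGrpCat.{u}} (f : G ⟶ G') :
    (pull (topAug Y') (topAugTop Y') AddCommGrpCat.{u}).map ((O.rI (bot D)).map f) ≫ O.xi G' = O.xi G ≫ O.rP.map ((pull (topAug Y) (topAugTop Y) AddCommGrpCat.{u}).map f) := by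
  apply ((FibDesc.adj GY KY AddCommGrpCat.{u}).homEquiv _ _).injective
  have h := compat O (𝟙 ((pull (topAug Y) (topAugTop Y) AddCommGrpCat.{u}).obj G'))
  rw [CategoryTheory.Functor.map_id, Category.comp_id] at h
  rw [compat, Adjunction.homEquiv_naturality_left, h, ← Category.assoc, ← Functor.map_comp,
    ← Adjunction.homEquiv_naturality_left, Category.comp_id]

/-- The comparison of inverse images on complexes. -/
def xiC (L : CochainComplex (Sheaf (JY (bot D)) AddCommGrpCat.{u}) ℤ) :
    ((pull (topAug Y') (topAugTop Y') AddCommGrpCat.{u}).mapHomologicalComplex cS).obj (((O.rI (bot D)).mapHomologicalComplex cS).obj L) ⟶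
      (O.rP.mapHomologicalComplex cS).obj (((pull (topAug Y) (topAugTop Y) AddCommGrpCat.{u}).mapHomologicalComplex cS).obj L) where
  f n := O.xi (L.X n)
  comm' i j _ := (xi_naturality O (L.d i j)).symm

instance isIso_xiC (L : CochainComplex (Sheaf (JY (bot D)) AddCommGrpCat.{u}) ℤ) : IsIso (xiC O L) :=
  haveI : ∀ n, IsIso ((xiC O L).f n) := fun n => inferInstanceAs (IsIso (O.xi (L.X n)))
  HomologicalComplex.Hom.isIso_of_components _

instance additive_rP : (O.rP).Additive where
instance additive_rI (i : (WithInitial D)ᵒᵖ) : (O.rI i).Additive where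

instance exact_rI (i : (WithInitial D)ᵒᵖ) : PreservesFiniteColimits (O.rI i) :=
  haveI := (O.adjI i).leftAdjoint_preservesColimits
  inferInstance

instance exact_rP : PreservesFiniteColimits O.rP :=
  haveI := (O.ImPart.sheafAdjunctionCocontinuous AddCommGrpCat.{u} (totPart GY KY) (totPart FY JY)).leftAdjoint_preservesColimits
  inferInstance

instance exact_rP' : PreservesFiniteLimits O.rP :=
  haveI := (O.ImPart.sheafAdjunctionContinuous AddCommGrpCat.{u} (totPart GY KY) (totPart FY JY)).rightAdjoint_preservesLimits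
  inferInstance

instance exact_rI' (i : (WithInitial D)ᵒᵖ) : PreservesFiniteLimits (O.rI i) :=
  haveI : (O.img i).IsContinuous (KY i) (JY i) := O.img_continuous i
  haveI := ((O.img i).sheafAdjunctionContinuous AddCommGrpCat.{u} (KY i) (JY i)).rightAdjoint_preservesLimits
  inferInstance

theorem isKInjective_rP (J : CochainComplex (PSh Y) ℤ) [J.IsKInjective] :
    CochainComplex.IsKInjective ((O.rP.mapHomologicalComplex cS).obj J) := by
  let ad := O.ImPart.sheafAdjunctionContinuous AddCommGrpCat.{u} (totPart GY KY) (totPart FY JY)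
  haveI := ad.leftAdjoint_preservesColimits
  let Lf := O.ImPart.sheafPullback AddCommGrpCat.{u} (totPart GY KY) (totPart FY JY)
  haveI : PreservesFiniteLimits Lf := preservesFiniteLimits_leftAdjoint O
  haveI : PreservesFiniteColimits Lf := inferInstance
  haveI := preservesBinaryBiproducts_of_preservesBinaryCoproducts Lf
  haveI : Lf.Additive := Functor.additive_of_preservesBinaryBiproducts Lf
  exact KInjLib.isKInjective_of_adj O.rP Lf ad J

theorem quasiIso_rI_adjunct (hd : IsCohDescentTop Y') {L : CochainComplex (Sheaf (JY (bot D)) AddCommGrpCat.{u}) ℤ}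
    (n : ℤ) [L.IsStrictlyGE n] {J : CochainComplex (PSh Y) ℤ} [J.IsKInjective]
    [((pull (topAug Y) (topAugTop Y) AddCommGrpCat.{u})).Additive] [(push FY JY AddCommGrpCat.{u}).Additive]
    (q : ((pull (topAug Y) (topAugTop Y) AddCommGrpCat.{u}).mapHomologicalComplex cS).obj L ⟶ J) [_root_.QuasiIso q] :
    _root_.QuasiIso (((O.rI (bot D)).mapHomologicalComplex cS).map
      (adjunct (FibDesc.adj FY JY AddCommGrpCat.{u}) q)) := by
  letI := HasDerivedCategory.standard (BaseSh GY KY AddCommGrpCat.{u})
  letI := HasDerivedCategory.standard (DSh GY KY AddCommGrpCat.{u})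
  haveI := isKInjective_rP O J
  let L' := ((O.rI (bot D)).mapHomologicalComplex cS).obj L
  let q' : ((pull (topAug Y') (topAugTop Y') AddCommGrpCat.{u}).mapHomologicalComplex cS).obj L' ⟶ (O.rP.mapHomologicalComplex cS).obj J :=
    xiC O L ≫ (O.rP.mapHomologicalComplex cS).map q
  haveI : _root_.QuasiIso ((O.rP.mapHomologicalComplex cS).map q) := inferInstance
  haveI : _root_.QuasiIso q' := quasiIso_comp _ _
  haveI : CochainComplex.IsStrictlyGE L' n := CochainComplex.isStrictlyGE_iff _ _ |>.2 fun i hi =>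
    (show IsZero ((O.rI (bot D)).obj (L.X i)) from (O.rI (bot D)).map_isZero (L.isZero_of_isStrictlyGE n i hi))
  obtain ⟨_, _, _, _, _, _, h⟩ := hd
  have hη : _root_.QuasiIso (adjunct (FibDesc.adj GY KY AddCommGrpCat.{u}) q') :=
    quasiIso_adjunct_of_bijective (FibDesc.adj GY KY AddCommGrpCat.{u}) q' ⟨n, inferInstance⟩ h
  let β : ((O.rI (bot D)).mapHomologicalComplex cS).obj
      (((push FY JY AddCommGrpCat.{u}).mapHomologicalComplex cS).obj J) ⟶
      ((push GY KY AddCommGrpCat.{u}).mapHomologicalComplex cS).obj ((O.rP.mapHomologicalComplex cS).obj J) :=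
    { f := fun i => O.beta (J.X i)
      comm' := fun i j _ => by
        change O.beta (J.X i) ≫ (push GY KY AddCommGrpCat.{u}).map (O.rP.map (J.d i j)) =
          (O.rI (bot D)).map ((push FY JY AddCommGrpCat.{u}).map (J.d i j)) ≫ O.beta (J.X j)
        have h1 := compat O ((FibDesc.adj FY JY AddCommGrpCat.{u}).counit.app (J.X i))
        have h2 := compat O ((FibDesc.adj FY JY AddCommGrpCat.{u}).counit.app (J.X i) ≫ J.d i j)
        rw [Functor.map_comp, ← Category.assoc, Adjunction.homEquiv_naturality_right, h1,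
          Adjunction.homEquiv_naturality_right] at h2
        simp only [Adjunction.homEquiv_unit, Adjunction.right_triangle_components, Functor.map_id,
          Category.id_comp] at h2
        exact h2 }
  haveI : IsIso β :=
    haveI : ∀ i, IsIso (β.f i) := fun i => inferInstanceAs (IsIso (O.beta (J.X i)))
    HomologicalComplex.Hom.isIso_of_components _
  have he : ((O.rI (bot D)).mapHomologicalComplex cS).map (adjunct (FibDesc.adj FY JY AddCommGrpCat.{u}) q) ≫ β =
      adjunct (FibDesc.adj GY KY AddCommGrpCat.{u}) q' := by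
    ext i : 1
    rw [adjunct, adjunct, Adjunction.homEquiv_unit, Adjunction.homEquiv_unit]
    exact (congrArg (fun g => (O.rI (bot D)).map g ≫ O.beta (J.X i))
        ((FibDesc.adj FY JY AddCommGrpCat.{u}).homEquiv_unit (L.X i) (J.X i) (q.f i)).symm).trans
      ((compat O (q.f i)).symm.trans
        ((FibDesc.adj GY KY AddCommGrpCat.{u}).homEquiv_unit _ _ _))
  rw [← he] at hη
  exact quasiIso_of_comp_right _ β

theorem isIso_of_rI {ι : Type u} (Z : ι → (WithInitial D)ᵒᵖ ⥤ TopCat.{u}) (Os : ∀ k, OpenSub (Z k) Y)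
    (hcov : ∀ x : Y.obj (bot D), ∃ k, x ∈ Set.range ((Os k).j.app (bot D)))
    {G G' : Sheaf (JY (bot D)) AddCommGrpCat.{u}} (α : G ⟶ G')
    (h : ∀ k, IsIso (((Os k).rI (bot D)).map α)) : IsIso α := by
  let B : {W : Opens (Y.obj (bot D)) // ∃ k, ∀ x ∈ W, x ∈ Set.range ((Os k).j.app (bot D))} →
      Opens (Y.obj (bot D)) := Subtype.val
  have hB : Opens.IsBasis (Set.range B) := by
    rw [Opens.isBasis_iff_nbhd]
    intro U x hx
    obtain ⟨k, hk⟩ := hcov x
    exact ⟨U ⊓ ⟨Set.range ((Os k).j.app (bot D)), ((Os k).emb (bot D)).isOpen_range⟩,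
      ⟨⟨_, k, fun y hy => (hy : y ∈ (U : Set _) ∧ y ∈ Set.range ((Os k).j.app (bot D))).2⟩, rfl⟩, ⟨hx, hk⟩, inf_le_left⟩
  haveI := TopCat.Opens.coverDense_inducedFunctor hB
  refine Functor.IsCoverDense.iso_of_restrict_iso (G := inducedFunctor B) α ?_
  refine @NatIso.isIso_of_isIso_app _ _ _ _ _ _ _ fun W => ?_
  obtain ⟨k, hk⟩ := W.unop.2
  have e := (Os k).img_preimage (bot D) hk
  haveI := h k
  have h1 : IsIso ((((Os k).rI (bot D)).map α).hom.app
      (op ((Opens.map ((Os k).j.app (bot D))).obj W.unop.1))) := inferInstance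
  change IsIso (α.hom.app (op W.unop.1))
  change IsIso (α.hom.app (op (((Os k).img (bot D)).obj ((Opens.map ((Os k).j.app (bot D))).obj W.unop.1)))) at h1
  rw [← e] at h1
  exact h1

/-- Cohomological descent is local on the base. -/
theorem isCohDescentTop_of_cover {ι : Type u} (Z : ι → (WithInitial D)ᵒᵖ ⥤ TopCat.{u}) (Os : ∀ k, OpenSub (Z k) Y)
    (hcov : ∀ x : Y.obj (bot D), ∃ k, x ∈ Set.range ((Os k).j.app (bot D)))
    (hd : ∀ k, IsCohDescentTop (Z k)) : IsCohDescentTop Y := by
  letI := HasDerivedCategory.standard (BaseSh FY JY AddCommGrpCat.{u})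
  letI := HasDerivedCategory.standard (DSh FY JY AddCommGrpCat.{u})
  refine ⟨eps_continuous Y, inferInstance, incl_continuous Y, incl_cocontinuous Y, fun P => inferInstance,
    preservesFiniteLimits_pull, fun K M => ?_⟩
  obtain ⟨n, hn⟩ := M.property
  haveI : DerivedCategory.IsGE M.obj n := hn
  obtain ⟨L, hL, ⟨eL⟩⟩ := DerivedCategory.exists_iso_Q_obj_of_isGE M.obj n
  obtain ⟨J, q, hJ, hq, -, -⟩ := KInjLib.exists_resolution (((pull (topAug Y) (topAugTop Y) AddCommGrpCat.{u}).mapHomologicalComplex cS).obj L)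
  have hη : _root_.QuasiIso (adjunct (FibDesc.adj FY JY AddCommGrpCat.{u}) q) := by
    constructor
    intro i
    rw [quasiIsoAt_iff_isIso_homologyMap]
    refine isIso_of_rI Z Os hcov _ fun k => ?_
    have hk := quasiIso_rI_adjunct (Os k) (hd k) n q
    let η := adjunct (FibDesc.adj FY JY AddCommGrpCat.{u}) q
    let φ := (HomologicalComplex.shortComplexFunctor _ cS i).map η
    have hnat := ShortComplex.mapHomologyIso_hom_naturality φ ((Os k).rI (bot D))
    haveI : IsIso (ShortComplex.homologyMap (((Os k).rI (bot D)).mapShortComplex.map φ)) :=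
      (quasiIsoAt_iff_isIso_homologyMap (((((Os k).rI (bot D)).mapHomologicalComplex cS).map η)) i).1 (hk.quasiIsoAt i)
    exact IsIso.of_isIso_fac_left hnat.symm
  have h := bijective_map_of_quasiIso (FibDesc.adj FY JY AddCommGrpCat.{u}) q hη K.obj
  refine (congrArg Function.Bijective (funext fun g => ?_)).mp
    ((((pull (topAug Y) (topAugTop Y) AddCommGrpCat.{u}).mapDerivedCategory.mapIso eL.symm).homToEquiv).bijective.comp (h.comp eL.homToEquiv.bijective))
  simp [← Functor.map_comp]

end Groth.Agent.FibLocal8
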