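import Groth.Agent.Lib.FibSplit8.Maps

/-!
# An open sub-family of an augmented family of spaces, pulled back from an open subset of the base
-/

set_option autoImplicit false
set_option backward.isDefEq.respectTransparency false
set_option backward.isDefEq.respectTransparency.types false
set_option maxHeartbeats 1000000

universe u

open CategoryTheory CategoryTheory.Limits Opposite TopologicalSpace Pseudofunctor.CoGrothendieck FibDesc
open Groth.Agent.FibSplit8

noncomputable section

namespace Groth.Agent.FibLocal8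

variable {D : Type} [Category.{0} D]

/-- An open sub-family which is the inverse image of an open subset of the base. -/
structure OpenSub (Y' Y : (WithInitial D)ᵒᵖ ⥤ TopCat.{u}) where
  /-- the inclusion -/
  j : Y' ⟶ Y
  emb : ∀ i, Topology.IsOpenEmbedding (j.app i)
  cart : ∀ (i : (WithInitial D)ᵒᵖ) (x : Y.obj i),
    epsMap Y i x ∈ Set.range (j.app (bot D)) → x ∈ Set.range (j.app i)

variable {Y' Y : (WithInitial D)ᵒᵖ ⥤ TopCat.{u}} (O : OpenSub Y' Y)

local notation "FY" => topAug Y
local notation "JY" => topAugTop Y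
local notation "GY" => topAug Y'
local notation "KY" => topAugTop Y'

/-- Images of open subsets. -/
abbrev OpenSub.img (i : (WithInitial D)ᵒᵖ) : Opens (Y'.obj i) ⥤ Opens (Y.obj i) := (O.emb i).isOpenMap.functor

theorem OpenSub.preimage_img (i : (WithInitial D)ᵒᵖ) (U : Opens (Y'.obj i)) :
    (Opens.map (O.j.app i)).obj ((O.img i).obj U) = U :=
  Opens.ext (Set.preimage_image_eq _ (O.emb i).injective)

theorem OpenSub.img_le_map {i k : (WithInitial D)ᵒᵖ} (f : i ⟶ k) {U : Opens (Y'.obj i)} {V : Opens (Y'.obj k)}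
    (h : U ≤ (Opens.map (Y'.map f)).obj V) :
    (O.img i).obj U ≤ (Opens.map (Y.map f)).obj ((O.img k).obj V) := by
  rintro _ ⟨x, hx, rfl⟩
  refine ⟨Y'.map f x, h hx, ?_⟩
  exact congrArg (fun φ => φ x) (O.j.naturality f)

theorem OpenSub.map_img_bot (i : (WithInitial D)ᵒᵖ) (U : Opens (Y'.obj (bot D))) :
    (Opens.map (epsMap Y i)).obj ((O.img (bot D)).obj U) = (O.img i).obj ((Opens.map (epsMap Y' i)).obj U) := by
  refine le_antisymm (fun x hx => ?_) (O.img_le_map (botTerminal.from i) le_rfl)
  obtain ⟨y, hy, hyx⟩ := hx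
  obtain ⟨x', rfl⟩ := O.cart i x ⟨y, hyx⟩
  refine ⟨x', ?_, rfl⟩
  have e : O.j.app (bot D) (epsMap Y' i x') = O.j.app (bot D) y :=
    ((congrArg (fun φ => φ x') (O.j.naturality (botTerminal.from i))).trans hyx.symm)
  change epsMap Y' i x' ∈ U
  rw [(O.emb (bot D)).injective e]
  exact hy

theorem OpenSub.img_preimage (i : (WithInitial D)ᵒᵖ) {V : Opens (Y.obj i)}
    (h : ∀ x ∈ V, x ∈ Set.range (O.j.app i)) : V = (O.img i).obj ((Opens.map (O.j.app i)).obj V) := by
  refine le_antisymm (fun x hx => ?_) (fun x hx => ?_)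
  · obtain ⟨x', rfl⟩ := h x hx
    exact ⟨x', hx, rfl⟩
  · obtain ⟨x', hx', rfl⟩ := hx
    exact hx'

theorem OpenSub.mem_of_mem_img {i k : (WithInitial D)ᵒᵖ} (f : i ⟶ k) {V : Opens (Y'.obj k)} {x : Y'.obj i}
    (h : O.j.app i x ∈ (Opens.map (Y.map f)).obj ((O.img k).obj V)) : x ∈ (Opens.map (Y'.map f)).obj V := by
  obtain ⟨y, hy, hyx⟩ := h
  have h1 := congrArg (fun φ => φ x) (O.j.naturality f)
  have e : y = Y'.map f x := (O.emb k).injective (hyx.trans h1.symm)
  rw [e] at hy
  exact hy

/-- The inclusion of total categories. -/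
def OpenSub.Im : ∫ᶜ GY ⥤ ∫ᶜ FY where
  obj X := mkObj Y X.base ((O.img X.base).obj (opn Y' X))
  map {X Z} g := homMk Y (a := mkObj Y X.base ((O.img X.base).obj (opn Y' X)))
    (b := mkObj Y Z.base ((O.img Z.base).obj (opn Y' Z))) g.base (O.img_le_map g.base (hom_le Y' g))
  map_id X := hom_ext Y rfl
  map_comp f g := hom_ext Y rfl

/-- The inclusion of the total categories of the parts. -/
def OpenSub.ImPart : ∫ᶜ (part GY) ⥤ ∫ᶜ (part FY) where
  obj X := mkObjPart Y X.base ((O.img ((toAug D).obj X.base)).obj X.fiber)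
  map {X Z} g := homMkPart (a := mkObjPart Y X.base ((O.img ((toAug D).obj X.base)).obj X.fiber))
    (b := mkObjPart Y Z.base ((O.img ((toAug D).obj Z.base)).obj Z.fiber)) g.base
    (O.img_le_map ((toAug D).map g.base) (leOfHom (X := Opens (Y'.obj ((toAug D).obj X.base))) g.fiber))
  map_id X := hom_ext_part rfl
  map_comp f g := hom_ext_part rfl

theorem OpenSub.img_continuous (i : (WithInitial D)ᵒᵖ) : (O.img i).IsContinuous (KY i) (JY i) :=
  (O.emb i).functor_isContinuous

theorem OpenSub.img_cocontinuous (i : (WithInitial D)ᵒᵖ) : (O.img i).IsCocontinuous (KY i) (JY i) :=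
  (Adjunction.isCocontinuous_iff_coverPreserving _ _ (O.emb i).isOpenMap.adjunction).2 (coverPreserving_opens_map _)

instance Im_continuous : O.Im.IsContinuous (totAug GY KY) (totAug FY JY) := by
  refine (FC16.FibTotal.isContinuous_iff (isPreFibSite Y') _ _).2 fun i => ?_
  haveI := O.img_continuous i
  haveI := ι_continuous Y i
  exact Functor.isContinuous_comp' (F₁ := O.img i) (F₂ := ι FY i) (F₁₂ := ι GY i ⋙ O.Im)
    (NatIso.ofComponents (fun U => Iso.refl _) fun g => hom_ext Y
      ((Category.comp_id _).trans (Category.id_comp _).symm)) (KY i) (JY i) _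

instance Im_cocontinuous : O.Im.IsCocontinuous (totAug GY KY) (totAug FY JY) where
  cover_lift {X T} hT := by
    have h := (FC16.FibTotal.mem_total (isPreFibSite Y) T).1 hT
    rw [FC16.FibTotal.mem_total (isPreFibSite Y')]
    haveI := O.img_cocontinuous X.base
    refine GrothendieckTopology.superset_covering _ ?_ ((O.img X.base).cover_lift (KY X.base) (JY X.base) h)
    intro V g hg
    change T.arrows (O.Im.map ((ι GY X.base).map g))
    have : O.Im.map ((ι GY X.base).map g) = (ι FY X.base).map ((O.img X.base).map g) := hom_ext Y rfl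
    rw [this]
    exact hg

instance ImPart_continuous : O.ImPart.IsContinuous (totPart GY KY) (totPart FY JY) := by
  refine (FC16.FibTotal.isContinuous_iff (isPreFibSite_part Y') _ _).2 fun i => ?_
  haveI : (O.img ((toAug D).obj i)).IsContinuous (partTop GY KY i) (partTop FY JY i) := O.img_continuous _
  haveI : (ι (part FY) i).IsContinuous (partTop FY JY i) (totPart FY JY) :=
    FC16.FibTotal.ι_isContinuous (isPreFibSite_part Y) _
  exact Functor.isContinuous_comp' (F₁ := O.img ((toAug D).obj i)) (F₂ := ι (part FY) i)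
    (F₁₂ := ι (part GY) i ⋙ O.ImPart)
    (NatIso.ofComponents (fun U => Iso.refl _) fun g => hom_ext_part
      ((Category.comp_id _).trans (Category.id_comp _).symm)) (partTop GY KY i) (partTop FY JY i) _

instance ImPart_cocontinuous : O.ImPart.IsCocontinuous (totPart GY KY) (totPart FY JY) where
  cover_lift {X T} hT := by
    have h := (FC16.FibTotal.mem_total (isPreFibSite_part Y) T).1 hT
    rw [FC16.FibTotal.mem_total (isPreFibSite_part Y')]
    haveI := O.img_cocontinuous ((toAug D).obj X.base)
    refine GrothendieckTopology.superset_covering _ ?_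
      ((O.img ((toAug D).obj X.base)).cover_lift (KY ((toAug D).obj X.base)) (JY ((toAug D).obj X.base)) h)
    intro V g hg
    change T.arrows (O.ImPart.map ((ι (part GY) X.base).map g))
    have : O.ImPart.map ((ι (part GY) X.base).map g) =
        (ι (part FY) X.base).map ((O.img ((toAug D).obj X.base)).map g) := hom_ext_part rfl
    rw [this]
    exact hg

end Groth.Agent.FibLocal8
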